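import Mathlib.Algebra.Group.End
import Mathlib.Algebra.BigOperators.Group.List.Basic
import Mathlib.Algebra.Group.Subgroup.Ker
import Mathlib.Tactic.Group

/-! Elementary algebra of abstract Shintani descent for a group automorphism. -/

set_option autoImplicit false

namespace CfsgLib.Shintani

variable {X : Type*} [Group X] (σ : MulAut X)

theorem pow_succ_apply (e : ℕ) (a : X) : (σ ^ (e + 1)) a = σ ((σ ^ e) a) := by
  rw [pow_succ', MulAut.mul_apply]

theorem apply_comm (e : ℕ) (a : X) : (σ ^ e) (σ a) = σ ((σ ^ e) a) := by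
  rw [← pow_succ_apply, pow_succ, MulAut.mul_apply]

theorem mem_fix_iff (f : MulAut X) (x : X) :
    x ∈ (MulEquiv.toMonoidHom f).eqLocus (MonoidHom.id X) ↔ f x = x := Iff.rfl

theorem pow_fix {x : X} (hx : σ x = x) (e : ℕ) : (σ ^ e) x = x := by
  induction e with
  | zero => simp
  | succ e ih => rw [pow_succ_apply, ih, hx]

/-- The norm `g σ(g) ⋯ σ^{d-1}(g)` of `g = a σ(a)⁻¹` telescopes. -/
theorem prod_telescope {g a : X} (ha : g = a * (σ a)⁻¹) (d : ℕ) :
    ((List.range d).map (fun i => (σ ^ i) g)).prod = a * ((σ ^ d) a)⁻¹ := by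
  induction d with
  | zero => simp
  | succ d ih =>
    rw [List.range_succ, List.map_append, List.prod_append, ih]
    simp [ha, pow_succ_apply, apply_comm, mul_assoc]

theorem descent_fixed {g a : X} (e : ℕ) (hg : (σ ^ e) g = g) (ha : g = a * (σ a)⁻¹) :
    σ (((σ ^ e) a)⁻¹ * a) = ((σ ^ e) a)⁻¹ * a := by
  rw [ha, map_mul, map_inv, apply_comm] at hg
  have h1 : (σ ^ e) a = a * (σ a)⁻¹ * σ ((σ ^ e) a) := mul_inv_eq_iff_eq_mul.mp hg
  calc σ (((σ ^ e) a)⁻¹ * a) = (σ ((σ ^ e) a))⁻¹ * σ a := by rw [map_mul, map_inv]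
    _ = (a * (σ a)⁻¹ * σ ((σ ^ e) a))⁻¹ * a := by group
    _ = ((σ ^ e) a)⁻¹ * a := congrArg (fun y => y⁻¹ * a) h1.symm

end CfsgLib.Shintani
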